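import Mathlib
import Cfsg.Prelude.Def_Transfer
import Cfsg.Agent.Lib.PGroup.Frattini

/-! Non-abelian groups of order `p ^ 3` and exponent `p` are extraspecial. -/

set_option autoImplicit false

namespace Cfsg.Agent.Lib.ExtraCube

open Subgroup

variable {G : Type*} [Group G] [Finite G] {p : ℕ} [hp : Fact p.Prime]

theorem card_center (hcard : Nat.card G = p ^ 3) (hne : ∃ a b : G, a * b ≠ b * a) :
    Nat.card (center G) = p := by
  have hG : IsPGroup p G := IsPGroup.of_card hcard
  haveI : Nontrivial G := by
    obtain ⟨a, b, hab⟩ := hne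
    exact ⟨a * b, b * a, hab⟩
  have hz := hG.bot_lt_center
  obtain ⟨j, hj, hjc⟩ := (Nat.dvd_prime_pow hp.out).1 (hcard ▸ card_subgroup_dvd_card (center G))
  have hidx : ¬ IsCyclic (G ⧸ center G) := by
    intro h
    obtain ⟨a, b, hab⟩ := hne
    exact hab (commutative_of_cyclic_center_quotient (QuotientGroup.mk' (center G))
      (by rw [QuotientGroup.ker_mk']) a b)
  interval_cases j
  · exact absurd (card_eq_one.1 (by simpa using hjc)) hz.ne'
  · simpa using hjc
  · exfalso
    apply hidx
    have h := (center G).card_mul_index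
    rw [hjc, hcard, pow_succ p 2] at h
    have : (center G).index = p := Nat.eq_of_mul_eq_mul_left (pow_pos hp.out.pos 2) h
    exact isCyclic_of_prime_card (p := p) (by rwa [← index_eq_card])
  · exfalso
    obtain ⟨a, b, hab⟩ := hne
    have htop : center G = ⊤ := eq_top_of_card_eq _ (hjc.trans hcard.symm)
    exact hab ((mem_center_iff.1 (htop ▸ mem_top b : b ∈ center G)) a)

theorem commutator_le_center (hcard : Nat.card G = p ^ 3) (hne : ∃ a b : G, a * b ≠ b * a) :
    commutator G ≤ center G := by
  have hz := card_center hcard hne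
  have h := (center G).card_mul_index
  rw [hz, hcard, pow_succ' p 2] at h
  have hi : Nat.card (G ⧸ center G) = p ^ 2 := by
    rw [← index_eq_card]; exact Nat.eq_of_mul_eq_mul_left hp.out.pos h
  haveI := IsPGroup.isMulCommutative_of_card_eq_prime_sq (G := G ⧸ center G) (p := p) hi
  rw [commutator_def, Subgroup.commutator_le]
  intro a _ b _
  rw [← QuotientGroup.eq_one_iff]
  simp only [commutatorElement_def, QuotientGroup.mk_mul, QuotientGroup.mk_inv]
  rw [IsMulCommutative.is_comm.comm (a : G ⧸ center G) b]
  group

theorem isExtraspecial (hcard : Nat.card G = p ^ 3) (hne : ∃ a b : G, a * b ≠ b * a)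
    (hpow : ∀ x : G, x ^ p = 1) : Cfsg.IsExtraspecial p G := by
  have hG : IsPGroup p G := IsPGroup.of_card hcard
  have hz := card_center hcard hne
  have hle := commutator_le_center hcard hne
  have hcomm : commutator G = center G := by
    refine eq_of_le_of_card_ge hle ?_
    rw [hz]
    obtain ⟨k, hk⟩ := IsPGroup.iff_card.1 (hG.to_subgroup (commutator G))
    rw [hk]
    refine Nat.le_self_pow ?_ p
    rintro rfl
    rw [pow_zero, card_eq_one] at hk
    obtain ⟨a, b, hab⟩ := hne
    apply hab
    have hab' := Subgroup.commutator_mem_commutator (mem_top a) (mem_top b)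
    rw [← commutator_def, hk, mem_bot, commutatorElement_eq_one_iff_mul_comm] at hab'
    exact hab'
  refine ⟨⟨hG, le_antisymm ?_ ?_, hcomm⟩, hz⟩
  · exact Cfsg.Agent.Lib.PFrattini.frattini_le hle (fun x => by rw [hpow x]; exact one_mem _)
  · rw [← hcomm]; exact Cfsg.Agent.Lib.PFrattini.commutator_le_frattini hG

end Cfsg.Agent.Lib.ExtraCube
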